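import Groth.Prelude.Def_GLin
import Mathlib.RingTheory.Flat.Equalizer
import Mathlib.LinearAlgebra.TensorProduct.Tower
import Mathlib.RingTheory.Etale.Basic
import Mathlib.RingTheory.Flat.Basic

/-! # Invariants commute with flat base change along invariant functions -/

universe u

open TensorProduct

namespace Groth.Agent.StrongEt

variable {k : Type u} [Field k] {A : Type u} [CommRing A] [HopfAlgebra k A]
  {S : Type u} [CommRing S] [Algebra k S] [HopfRep.Comod k A S] [GLin.IsCoactAlg k A S]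
  {R : Type u} [CommRing R] [Algebra k R] [HopfRep.Comod k A R] [GLin.IsCoactAlg k A R]
  {S₀ : Type u} [CommRing S₀] [Algebra k S₀] [Algebra S₀ S] [IsScalarTower k S₀ S]
  {R₀ : Type u} [CommRing R₀] [Algebra k R₀] [Algebra S₀ R₀] [IsScalarTower k S₀ R₀]

local notation "ρ" => HopfRep.Comod.coact (k := k) (A := A)

/-- `f ↦ coaction(f) - f ⊗ 1`, linear over the invariants. -/
noncomputable def defect (hS : ∀ s₀ : S₀, algebraMap S₀ S s₀ ∈ GLin.invariants k A S) :
    S →ₗ[S₀] S ⊗[k] A where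
  toFun f := ρ f - f ⊗ₜ[k] (1 : A)
  map_add' a b := by rw [map_add, TensorProduct.add_tmul]; abel
  map_smul' c f := by
    have h : ∀ z : S ⊗[k] A, c • z = (algebraMap S₀ S c ⊗ₜ[k] (1 : A)) * z := fun z => by
      induction z using TensorProduct.induction_on with
      | zero => simp
      | add a b ha hb => rw [smul_add, mul_add, ha, hb]
      | tmul a b => simp [TensorProduct.smul_tmul', Algebra.smul_def]
    rw [RingHom.id_apply, smul_sub, h, h, Algebra.TensorProduct.tmul_mul_tmul, one_mul, ← hS c,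
      ← GLin.IsCoactAlg.coact_mul, Algebra.smul_def]

theorem mem_ker_defect (hS : ∀ s₀ : S₀, algebraMap S₀ S s₀ ∈ GLin.invariants k A S) (f : S) :
    f ∈ LinearMap.ker (defect (A := A) hS) ↔ f ∈ GLin.invariants k A S := by
  rw [LinearMap.mem_ker, GLin.mem_invariants_iff, ← sub_eq_zero (a := ρ f)]
  rfl

/-- `(invariants of S) ⊗ R₀` exhausts the invariants of `S ⊗ R₀ = R`. -/
theorem exists_of_invariant [Module.Flat S₀ R₀]
    (hS : ∀ s₀ : S₀, algebraMap S₀ S s₀ ∈ GLin.invariants k A S)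
    (ι : S →ₐ[k] R) (hι : ∀ s, ρ (ι s) = Algebra.TensorProduct.map ι (AlgHom.id k A) (ρ s))
    (j : R₀ →ₐ[k] R) (hj : ∀ r₀, j r₀ ∈ GLin.invariants k A R)
    (e : R₀ ⊗[S₀] S →ₗ[k] R) (he : Function.Bijective e) (het : ∀ r₀ s, e (r₀ ⊗ₜ s) = j r₀ * ι s)
    {r : R} (hr : r ∈ GLin.invariants k A R) :
    ∃ w : R₀ ⊗[S₀] LinearMap.ker (defect (A := A) hS),
      e ((LinearMap.ker (defect (A := A) hS)).subtype.lTensor R₀ w) = r := by
  let Ψ : R₀ ⊗[S₀] (S ⊗[k] A) ≃ₗ[k] R ⊗[k] A :=
    ((TensorProduct.AlgebraTensorModule.assoc k S₀ S₀ R₀ S A).symm.restrictScalars k).trans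
      (TensorProduct.congr (LinearEquiv.ofBijective e he) (LinearEquiv.refl k A))
  have hΨ : ∀ (r₀ : R₀) (t : S ⊗[k] A), Ψ (r₀ ⊗ₜ t) =
      (j r₀ ⊗ₜ[k] (1 : A)) * Algebra.TensorProduct.map ι (AlgHom.id k A) t := by
    intro r₀ t
    induction t using TensorProduct.induction_on with
    | zero => simp
    | add a b ha hb => simp only [TensorProduct.tmul_add, map_add, mul_add, ha, hb]
    | tmul a b => simp [Ψ, het]
  have key : ∀ z, Ψ ((defect (A := A) hS).lTensor R₀ z) = ρ (e z) - e z ⊗ₜ[k] (1 : A) := by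
    intro z
    induction z using TensorProduct.induction_on with
    | zero => simp
    | add a b ha hb => simp only [map_add, TensorProduct.add_tmul, ha, hb]; abel
    | tmul r₀ s =>
      rw [LinearMap.lTensor_tmul, hΨ, het, GLin.IsCoactAlg.coact_mul, hι, hj r₀]
      simp [defect, mul_sub, Algebra.TensorProduct.tmul_mul_tmul]
  obtain ⟨z, rfl⟩ := he.2 r
  have h0 : (defect (A := A) hS).lTensor R₀ z = 0 := Ψ.injective (by
    rw [key, map_zero, sub_eq_zero]
    exact hr)
  obtain ⟨w, hw⟩ := (Module.Flat.lTensor_exact R₀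
    (LinearMap.exact_subtype_ker_map (defect (A := A) hS)) z).1 h0
  exact ⟨w, by rw [hw]⟩

/-- The range map `R₁ → R` onto the invariants lets invariant-valued maps factor. -/
theorem exists_lift_of_invariant {R₁ : Type u} [CommRing R₁] [Algebra k R₁] (i : R₁ →ₐ[k] R)
    (hi : Function.Injective i) (hrange : i.range = GLin.invariants k A R)
    {T : Type u} [CommRing T] [Algebra k T] (j : T →ₐ[k] R) (hj : ∀ t, j t ∈ GLin.invariants k A R) :
    ∃ j' : T →ₐ[k] R₁, ∀ t, i (j' t) = j t := by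
  let ei : R₁ ≃ₐ[k] i.range := AlgEquiv.ofInjective i hi
  refine ⟨ei.symm.toAlgHom.comp (j.codRestrict i.range fun t => hrange.symm ▸ hj t), fun t => ?_⟩
  exact congrArg Subtype.val (ei.apply_symm_apply ⟨j t, hrange.symm ▸ hj t⟩)

end Groth.Agent.StrongEt
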